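import Mathlib.CategoryTheory.Linear.LinearFunctor
import Mathlib.CategoryTheory.Equivalence
import Mathlib.CategoryTheory.Preadditive.AdditiveFunctor
import Mathlib.LinearAlgebra.Dual.Lemmas
import Mathlib.LinearAlgebra.Basis.VectorSpace

/-! Serre functors and representability of the duals of Hom functors. -/

set_option autoImplicit false
set_option linter.unusedSectionVars false
set_option linter.style.haveILetI false

universe w v u

open CategoryTheory

namespace Groth.Agent.Serre43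

variable {k : Type w} [Field k] {T : Type u} [Category.{v} T] [Preadditive T] [Linear k T]
  [∀ X Y : T, Module.Finite k (X ⟶ Y)]

section FromSerre

variable (S : T ≌ T) [S.functor.Additive] [S.functor.Linear k]
  (c : ∀ X Y : T, (X ⟶ Y) ≃ₗ[k] Module.Dual k (Y ⟶ S.functor.obj X))

theorem exists_represent
    (hc₁ : ∀ (X Y Y' : T) (f : X ⟶ Y) (g : Y ⟶ Y'),
      c X Y' (f ≫ g) = (c X Y f) ∘ₗ Linear.leftComp k (S.functor.obj X) g) (X : T) :
    ∃ (SX : T) (e : ∀ Y : T, (Y ⟶ SX) ≃ₗ[k] Module.Dual k (X ⟶ Y)),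
      ∀ (Y Y' : T) (g : Y' ⟶ Y) (f : Y ⟶ SX), e Y' (g ≫ f) = (e Y f) ∘ₗ Linear.rightComp k X g := by
  refine ⟨S.functor.obj X, fun Y => (Module.evalEquiv k _).trans (c X Y).dualMap, fun Y Y' g f =>
    LinearMap.ext fun φ => ?_⟩
  show c X Y' φ (g ≫ f) = c X Y (φ ≫ g) f
  rw [hc₁]
  rfl

theorem exists_corepresent
    (hc₁ : ∀ (X Y Y' : T) (f : X ⟶ Y) (g : Y ⟶ Y'),
      c X Y' (f ≫ g) = (c X Y f) ∘ₗ Linear.leftComp k (S.functor.obj X) g) (X : T) :
    ∃ (RX : T) (e : ∀ Y : T, (RX ⟶ Y) ≃ₗ[k] Module.Dual k (Y ⟶ X)),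
      ∀ (Y Y' : T) (g : Y ⟶ Y') (f : RX ⟶ Y), e Y' (f ≫ g) = (e Y f) ∘ₗ Linear.leftComp k X g := by
  let ε := S.counitIso.app X
  refine ⟨S.inverse.obj X, fun Y => (c _ Y).trans (Linear.homCongr k (Iso.refl Y) ε).symm.dualMap, fun Y Y' g f =>
    LinearMap.ext fun φ => ?_⟩
  show c _ Y' (f ≫ g) ((Linear.homCongr k (Iso.refl Y') ε).symm φ) =
    c _ Y f ((Linear.homCongr k (Iso.refl Y) ε).symm (g ≫ φ))
  rw [hc₁]
  refine congrArg (c _ Y f) ?_
  simp [Linear.homCongr_symm_apply]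

end FromSerre

section FromRep

variable (σ : T → T) (e : ∀ X Y : T, (Y ⟶ σ X) ≃ₗ[k] Module.Dual k (X ⟶ Y))

/-- The functor on morphisms. -/
noncomputable def serreMap {X' X : T} (a : X' ⟶ X) : σ X' ⟶ σ X :=
  (e X (σ X')).symm (e X' (σ X') (𝟙 _) ∘ₗ Linear.leftComp k (σ X') a)

variable (he : ∀ (X Y Y' : T) (g : Y' ⟶ Y) (f : Y ⟶ σ X), e X Y' (g ≫ f) = (e X Y f) ∘ₗ Linear.rightComp k X g)

include he

theorem e_eval {X Y : T} (ψ : Y ⟶ σ X) (f : X ⟶ Y) : e X Y ψ f = e X (σ X) (𝟙 _) (f ≫ ψ) := by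
  conv_lhs => rw [← Category.comp_id ψ, he X (σ X) Y ψ (𝟙 _)]
  rfl

theorem serreMap_spec {X' X Y : T} (a : X' ⟶ X) (ψ : Y ⟶ σ X') (f : X ⟶ Y) :
    e X Y (ψ ≫ serreMap σ e a) f = e X' Y ψ (a ≫ f) := by
  rw [he, LinearMap.comp_apply, serreMap, LinearEquiv.apply_symm_apply, e_eval σ e he ψ, Category.assoc]
  rfl

theorem serreMap_unique {X' X : T} (a : X' ⟶ X) (s : σ X' ⟶ σ X)
    (h : ∀ f : X ⟶ σ X', e X (σ X') s f = e X' (σ X') (𝟙 _) (a ≫ f)) : serreMap σ e a = s := by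
  refine (e X (σ X')).injective (LinearMap.ext fun f => ?_)
  rw [h, serreMap, LinearEquiv.apply_symm_apply]
  rfl

/-- The functor. -/
noncomputable def serreFunctor : T ⥤ T where
  obj := σ
  map a := serreMap σ e a
  map_id X := serreMap_unique σ e he _ _ fun f => by rw [Category.id_comp]
  map_comp {X Y Z} a b := serreMap_unique σ e he _ _ fun f => by
    rw [serreMap_spec σ e he, serreMap, LinearEquiv.apply_symm_apply, Category.assoc]
    rfl

instance : (serreFunctor σ e he).Additive where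
  map_add {X Y a b} := serreMap_unique σ e he _ _ fun f => by
    show e _ _ (serreMap σ e a + serreMap σ e b) f = _
    rw [map_add, LinearMap.add_apply, serreMap, serreMap, LinearEquiv.apply_symm_apply, LinearEquiv.apply_symm_apply,
      Preadditive.add_comp, map_add]
    rfl

instance : (serreFunctor σ e he).Linear k where
  map_smul {X Y} a r := serreMap_unique σ e he _ _ fun f => by
    show e _ _ (r • serreMap σ e a) f = _
    rw [map_smul, LinearMap.smul_apply, serreMap, LinearEquiv.apply_symm_apply, Linear.smul_comp, map_smul]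
    rfl

theorem serreMap_bijective (X' X : T) : Function.Bijective (fun a : X' ⟶ X => serreMap σ e a) := by
  have h : (fun a : X' ⟶ X => serreMap σ e a) = (e X (σ X')).symm ∘
      (((Module.evalEquiv k (X' ⟶ X)).trans (e X' X).dualMap).trans
        (LinearEquiv.refl k (Module.Dual k (X ⟶ σ X')))) := funext fun a => by
    refine serreMap_unique σ e he a _ fun f => ?_
    rw [Function.comp_apply, LinearEquiv.apply_symm_apply]
    exact e_eval σ e he f a
  rw [h]
  exact (LinearEquiv.bijective _).comp (LinearEquiv.bijective _)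

theorem serreFunctor_isEquivalence
    (hR : ∀ X : T, ∃ (RX : T) (r : ∀ Y : T, (RX ⟶ Y) ≃ₗ[k] Module.Dual k (Y ⟶ X)),
        ∀ (Y Y' : T) (g : Y ⟶ Y') (f : RX ⟶ Y), r Y' (f ≫ g) = (r Y f) ∘ₗ Linear.leftComp k X g) :
    (serreFunctor σ e he).IsEquivalence := by
  haveI : (serreFunctor σ e he).Full := ⟨fun {X Y} => (serreMap_bijective σ e he X Y).2⟩
  haveI : (serreFunctor σ e he).Faithful := ⟨fun {X Y a b} h => (serreMap_bijective σ e he X Y).1 h⟩
  haveI : (serreFunctor σ e he).EssSurj := ⟨fun X => by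
    obtain ⟨R, r, hr⟩ := hR X
    let α : ∀ Y : T, (Y ⟶ X) ≃ₗ[k] (Y ⟶ σ R) := fun Y =>
      ((Module.evalEquiv k (Y ⟶ X)).trans (r Y).dualMap).trans (e R Y).symm
    have hα : ∀ {Y Y' : T} (g : Y' ⟶ Y) (x : Y ⟶ X), α Y' (g ≫ x) = g ≫ α Y x := by
      intro Y Y' g x
      refine (e R Y').injective (LinearMap.ext fun f => ?_)
      simp only [α, LinearEquiv.trans_apply, LinearEquiv.apply_symm_apply]
      rw [he]
      simp only [LinearMap.comp_apply, LinearEquiv.apply_symm_apply]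
      show r Y' f (g ≫ x) = r Y (f ≫ g) x
      rw [hr]
      rfl
    let β := (α (σ R)).symm (𝟙 _)
    have h₁ : β ≫ α X (𝟙 X) = 𝟙 _ := by
      rw [← hα, Category.comp_id]
      exact LinearEquiv.apply_symm_apply _ _
    refine ⟨R, ⟨⟨β, α X (𝟙 X), h₁, ?_⟩⟩⟩
    refine (α X).injective ((hα (α X (𝟙 X)) β).trans ?_)
    exact (congrArg (α X (𝟙 X) ≫ ·) (LinearEquiv.apply_symm_apply _ _)).trans (Category.comp_id _)⟩
  exact { }

theorem exists_serre
    (hR : ∀ X : T, ∃ (RX : T) (r : ∀ Y : T, (RX ⟶ Y) ≃ₗ[k] Module.Dual k (Y ⟶ X)),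
        ∀ (Y Y' : T) (g : Y ⟶ Y') (f : RX ⟶ Y), r Y' (f ≫ g) = (r Y f) ∘ₗ Linear.leftComp k X g) :
    ∃ (S : T ≌ T) (_ : S.functor.Additive) (_ : S.functor.Linear k)
        (c : ∀ X Y : T, (X ⟶ Y) ≃ₗ[k] Module.Dual k (Y ⟶ S.functor.obj X)),
        (∀ (X Y Y' : T) (f : X ⟶ Y) (g : Y ⟶ Y'),
          c X Y' (f ≫ g) = (c X Y f) ∘ₗ Linear.leftComp k (S.functor.obj X) g) ∧
        (∀ (X' X Y : T) (a : X' ⟶ X) (f : X ⟶ Y),
          c X' Y (a ≫ f) = (c X Y f) ∘ₗ Linear.rightComp k Y (S.functor.map a)) := by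
  haveI := serreFunctor_isEquivalence σ e he hR
  refine ⟨(serreFunctor σ e he).asEquivalence, inferInstanceAs (serreFunctor σ e he).Additive,
    inferInstanceAs ((serreFunctor σ e he).Linear k),
    fun X Y => (Module.evalEquiv k (X ⟶ Y)).trans (e X Y).dualMap, fun X Y Y' f g => LinearMap.ext fun ψ => ?_,
    fun X' X Y a f => LinearMap.ext fun ψ => ?_⟩
  · exact (LinearMap.congr_fun (he X Y' Y g ψ) f).symm
  · exact (serreMap_spec σ e he a ψ f).symm

end FromRep

end Groth.Agent.Serre43
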