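import Mathlib.CategoryTheory.Triangulated.Pretriangulated
import Mathlib.CategoryTheory.Linear.LinearFunctor
import Mathlib.LinearAlgebra.Dual.Lemmas
import Mathlib.LinearAlgebra.Basis.VectorSpace
import Mathlib.LinearAlgebra.Isomorphisms

/-! Serre functors are exact. -/

set_option autoImplicit false
set_option linter.unusedSectionVars false
set_option linter.style.haveILetI false

universe w v u

open CategoryTheory CategoryTheory.Limits CategoryTheory.Pretriangulated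

namespace Groth.Agent.Serre43

variable {k : Type w} [Field k] {T : Type u} [Category.{v} T] [Preadditive T] [Linear k T]
  [∀ X Y : T, Module.Finite k (X ⟶ Y)]

/-- Serre duality data. -/
structure Data (k : Type w) [Field k] (T : Type u) [Category.{v} T] [Preadditive T] [Linear k T] where
  S : T ≌ T
  c : ∀ X Y : T, (X ⟶ Y) ≃ₗ[k] Module.Dual k (Y ⟶ S.functor.obj X)
  hc₁ : ∀ (X Y Y' : T) (f : X ⟶ Y) (g : Y ⟶ Y'),
      c X Y' (f ≫ g) = (c X Y f) ∘ₗ Linear.leftComp k (S.functor.obj X) g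
  hc₂ : ∀ (X' X Y : T) (a : X' ⟶ X) (f : X ⟶ Y),
      c X' Y (a ≫ f) = (c X Y f) ∘ₗ Linear.rightComp k Y (S.functor.map a)

variable (D : Data k T)

/-- The trace. -/
noncomputable def Data.tr (X : T) : Module.Dual k (X ⟶ D.S.functor.obj X) := D.c X X (𝟙 X)

theorem Data.c_apply {X Y : T} (f : X ⟶ Y) (ψ : Y ⟶ D.S.functor.obj X) : D.c X Y f ψ = D.tr X (f ≫ ψ) := by
  conv_lhs => rw [← Category.id_comp f, D.hc₁ X X Y (𝟙 X) f]
  rfl

theorem Data.tr_cyclic {X' X : T} (a : X' ⟶ X) (ψ : X ⟶ D.S.functor.obj X') :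
    D.tr X' (a ≫ ψ) = D.tr X (ψ ≫ D.S.functor.map a) := by
  have h := LinearMap.congr_fun (D.hc₂ X' X X a (𝟙 X)) ψ
  rw [Category.comp_id, D.c_apply, LinearMap.comp_apply, D.c_apply, Category.id_comp] at h
  exact h

theorem Data.separated {X Y : T} {ψ ψ' : Y ⟶ D.S.functor.obj X}
    (h : ∀ a : X ⟶ Y, D.tr X (a ≫ ψ) = D.tr X (a ≫ ψ')) : ψ = ψ' := by
  rw [← sub_eq_zero, ← Module.forall_dual_apply_eq_zero_iff k]
  intro φ
  obtain ⟨a, rfl⟩ := (D.c X Y).surjective φ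
  rw [D.c_apply, Preadditive.comp_sub, map_sub, sub_eq_zero]
  exact h a

theorem Data.exists_hom {X Y : T} (l : Module.Dual k (X ⟶ Y)) :
    ∃ ψ : Y ⟶ D.S.functor.obj X, ∀ a : X ⟶ Y, D.tr X (a ≫ ψ) = l a := by
  obtain ⟨ψ, hψ⟩ := ((Module.evalEquiv k (Y ⟶ D.S.functor.obj X)).trans (D.c X Y).dualMap).surjective l
  exact ⟨ψ, fun a => (D.c_apply a ψ).symm.trans (LinearMap.congr_fun hψ a)⟩

variable [HasShift T ℤ] [∀ n : ℤ, (shiftFunctor T n).Linear k] [∀ n : ℤ, (shiftFunctor T n).Additive]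

/-- The shift on morphisms, as a linear equivalence. -/
noncomputable def shiftHom (k : Type w) [Field k] [Linear k T] [∀ n : ℤ, (shiftFunctor T n).Linear k] (X Y : T) :
    (X ⟶ Y) ≃ₗ[k] (X⟦(1 : ℤ)⟧ ⟶ Y⟦(1 : ℤ)⟧) :=
  LinearEquiv.ofBijective ((shiftFunctor T (1 : ℤ)).mapLinearMap k)
    ⟨(shiftFunctor T (1 : ℤ)).map_injective, (shiftFunctor T (1 : ℤ)).map_surjective⟩

theorem shiftHom_apply {X Y : T} (f : X ⟶ Y) : shiftHom k X Y f = f⟦(1 : ℤ)⟧' := rfl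

theorem exists_shiftInv (X : T) : ∃ e : (D.S.functor.obj X)⟦(1 : ℤ)⟧ ⟶ D.S.functor.obj (X⟦(1 : ℤ)⟧),
    IsIso e ∧ ∀ z : X ⟶ D.S.functor.obj X, D.tr (X⟦(1 : ℤ)⟧) (z⟦(1 : ℤ)⟧' ≫ e) = - D.tr X z := by
  obtain ⟨e, he⟩ := D.exists_hom (X := X⟦(1 : ℤ)⟧) (Y := (D.S.functor.obj X)⟦(1 : ℤ)⟧)
    (- (D.tr X ∘ₗ (shiftHom k X (D.S.functor.obj X)).symm.toLinearMap))
  have he' : ∀ z : X ⟶ D.S.functor.obj X, D.tr (X⟦(1 : ℤ)⟧) (z⟦(1 : ℤ)⟧' ≫ e) = - D.tr X z := fun z => by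
    rw [he]
    show - (D.tr X ((shiftHom k X (D.S.functor.obj X)).symm (shiftHom k X (D.S.functor.obj X) z))) = _
    rw [LinearEquiv.symm_apply_apply]
  refine ⟨e, ?_, he'⟩
  have hinj : ∀ {Y : T} (q : Y ⟶ (D.S.functor.obj X)⟦(1 : ℤ)⟧), q ≫ e = 0 → q = 0 := by
    intro Y q hq
    let u := (shiftFunctorCompIsoId T (-1 : ℤ) 1 (by omega)).app Y
    obtain ⟨q₀, hq₀⟩ := (shiftFunctor T (1 : ℤ)).map_surjective (u.hom ≫ q)
    have h₀ : q₀ = 0 := D.separated fun a => by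
      have h := he' (a ≫ q₀)
      rw [Functor.map_comp, hq₀, Category.assoc, Category.assoc, hq, comp_zero, comp_zero, map_zero] at h
      rw [comp_zero, map_zero]
      exact neg_eq_zero.1 h.symm
    rw [h₀, Functor.map_zero] at hq₀
    exact (cancel_epi u.hom).1 (hq₀.symm.trans comp_zero.symm)
  let Y := D.S.functor.obj (X⟦(1 : ℤ)⟧)
  let u := (shiftFunctorCompIsoId T (-1 : ℤ) 1 (by omega)).app Y
  let l : (X ⟶ (shiftFunctor T (-1 : ℤ)).obj Y) →ₗ[k] k :=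
    - (D.tr (X⟦(1 : ℤ)⟧) ∘ₗ Linear.rightComp k (X⟦(1 : ℤ)⟧) u.hom ∘ₗ (shiftHom k _ _).toLinearMap)
  obtain ⟨q₀, hq₀⟩ := D.exists_hom l
  have hs : (u.inv ≫ q₀⟦(1 : ℤ)⟧') ≫ e = 𝟙 Y := by
    rw [Category.assoc, Iso.inv_comp_eq]
    refine Eq.trans ?_ (Category.comp_id _).symm
    refine D.separated fun a => ?_
    obtain ⟨a₀, rfl⟩ := (shiftFunctor T (1 : ℤ)).map_surjective a
    rw [← Category.assoc, ← Functor.map_comp, he', hq₀]
    exact neg_neg _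
  refine ⟨u.inv ≫ q₀⟦(1 : ℤ)⟧', ?_, hs⟩
  rw [← sub_eq_zero]
  exact hinj _ (by rw [Preadditive.sub_comp, Category.assoc, hs, Category.comp_id, Category.id_comp, sub_self])

variable [HasZeroObject T] [Pretriangulated T] [D.S.functor.Additive]

/-- The commutation with the shift. -/
noncomputable def shiftIso : shiftFunctor T (1 : ℤ) ⋙ D.S.functor ≅ D.S.functor ⋙ shiftFunctor T (1 : ℤ) :=
  Iso.symm (NatIso.ofComponents
    (fun X => haveI := (exists_shiftInv D X).choose_spec.1; asIso (exists_shiftInv D X).choose)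
    (fun {X Y} f => D.separated fun a => by
      obtain ⟨a₀, rfl⟩ := (shiftFunctor T (1 : ℤ)).map_surjective a
      have hX := (exists_shiftInv D X).choose_spec.2
      have hY := (exists_shiftInv D Y).choose_spec.2
      show D.tr (Y⟦(1 : ℤ)⟧) (a₀⟦(1 : ℤ)⟧' ≫ (D.S.functor.map f)⟦(1 : ℤ)⟧' ≫ (exists_shiftInv D Y).choose) =
        D.tr (Y⟦(1 : ℤ)⟧) (a₀⟦(1 : ℤ)⟧' ≫ (exists_shiftInv D X).choose ≫ D.S.functor.map (f⟦(1 : ℤ)⟧'))
      rw [← Category.assoc, ← Functor.map_comp, hY, ← Category.assoc, ← D.tr_cyclic f a₀,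
        ← D.tr_cyclic (f⟦(1 : ℤ)⟧'), ← Category.assoc, ← Functor.map_comp, hX]))

theorem shiftIso_spec (X : T) (z : X ⟶ D.S.functor.obj X) :
    D.tr (X⟦(1 : ℤ)⟧) (z⟦(1 : ℤ)⟧' ≫ (shiftIso D).inv.app X) = - D.tr X z :=
  (exists_shiftInv D X).choose_spec.2 z

theorem exists_third (A B C Q : T) (f : A ⟶ B) (g : B ⟶ C) (h : C ⟶ A⟦(1 : ℤ)⟧)
    (v : D.S.functor.obj B ⟶ Q) (w : Q ⟶ (D.S.functor.obj A)⟦(1 : ℤ)⟧)
    (hT : Triangle.mk f g h ∈ distTriang T) (hQ : Triangle.mk (D.S.functor.map f) v w ∈ distTriang T) :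
    ∃ η : Q ⟶ D.S.functor.obj C, v ≫ η = D.S.functor.map g ∧
      η ≫ D.S.functor.map h = w ≫ (shiftIso D).inv.app A := by
  let L : ((C ⟶ D.S.functor.obj B) × (A⟦(1 : ℤ)⟧ ⟶ Q)) →ₗ[k] (C ⟶ Q) :=
    LinearMap.coprod (Linear.rightComp k C v) (Linear.leftComp k Q h)
  let Φ : ((C ⟶ D.S.functor.obj B) × (A⟦(1 : ℤ)⟧ ⟶ Q)) →ₗ[k] k :=
    LinearMap.coprod (D.tr B ∘ₗ Linear.leftComp k (D.S.functor.obj B) g)
      (D.tr (A⟦(1 : ℤ)⟧) ∘ₗ Linear.rightComp k (A⟦(1 : ℤ)⟧) (w ≫ (shiftIso D).inv.app A))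
  have hker : LinearMap.ker L ≤ LinearMap.ker Φ := by
    rintro ⟨γ, ρ⟩ hγ
    rw [LinearMap.mem_ker] at hγ ⊢
    change γ ≫ v + h ≫ ρ = 0 at hγ
    obtain ⟨μ', hμ₁, hμ₂⟩ := complete_distinguished_triangle_morphism
      (Triangle.mk f g h).rotate.rotate (Triangle.mk (D.S.functor.map f) v w).rotate
      (rot_of_distTriang _ (rot_of_distTriang _ hT)) (rot_of_distTriang _ hQ) γ (-ρ) (by
        change h ≫ (-ρ) = γ ≫ v
        rw [Preadditive.comp_neg, eq_comm, eq_neg_iff_add_eq_zero]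
        exact hγ)
    obtain ⟨μ, rfl⟩ : ∃ μ : B ⟶ D.S.functor.obj A, μ⟦(1 : ℤ)⟧' = μ' := (shiftFunctor T (1 : ℤ)).map_surjective μ'
    change (- f⟦(1 : ℤ)⟧') ≫ μ⟦(1 : ℤ)⟧' = (-ρ) ≫ w at hμ₁
    change (- g⟦(1 : ℤ)⟧') ≫ γ⟦(1 : ℤ)⟧' = μ⟦(1 : ℤ)⟧' ≫ (- (D.S.functor.map f)⟦(1 : ℤ)⟧') at hμ₂
    rw [Preadditive.neg_comp, Preadditive.comp_neg, neg_inj, ← Functor.map_comp, ← Functor.map_comp] at hμ₂
    rw [Preadditive.neg_comp, Preadditive.neg_comp, neg_inj, ← Functor.map_comp] at hμ₁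
    have hμ₂' := (shiftFunctor T (1 : ℤ)).map_injective hμ₂
    show D.tr B (g ≫ γ) + D.tr (A⟦(1 : ℤ)⟧) (ρ ≫ w ≫ (shiftIso D).inv.app A) = 0
    rw [← Category.assoc ρ, ← hμ₁, shiftIso_spec, hμ₂', ← D.tr_cyclic, add_neg_cancel]
  obtain ⟨l, hl⟩ := LinearMap.exists_extend
    ((LinearMap.ker L).liftQ Φ hker ∘ₗ L.quotKerEquivRange.symm.toLinearMap)
  obtain ⟨η, hη⟩ := D.exists_hom l
  have hΦ : ∀ x, l (L x) = Φ x := fun x => by
    have := LinearMap.congr_fun hl ⟨L x, ⟨x, rfl⟩⟩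
    rw [LinearMap.comp_apply, LinearMap.comp_apply, Submodule.subtype_apply] at this
    rw [this]
    show (LinearMap.ker L).liftQ Φ hker (L.quotKerEquivRange.symm ⟨L x, ⟨x, rfl⟩⟩) = _
    rw [show L.quotKerEquivRange.symm ⟨L x, ⟨x, rfl⟩⟩ = Submodule.Quotient.mk x from
      L.quotKerEquivRange_symm_apply_image x ⟨x, rfl⟩]
    rfl
  refine ⟨η, D.separated fun γ => ?_, D.separated fun ρ => ?_⟩
  · have h₁ := hΦ (γ, 0)
    change l (γ ≫ v + h ≫ (0 : A⟦(1 : ℤ)⟧ ⟶ Q)) = D.tr B (g ≫ γ) + D.tr _ ((0 : A⟦(1 : ℤ)⟧ ⟶ Q) ≫ _) at h₁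
    rw [comp_zero, add_zero, zero_comp, map_zero, add_zero, ← hη, Category.assoc] at h₁
    exact h₁.trans (D.tr_cyclic g γ)
  · have h₁ := hΦ (0, ρ)
    change l ((0 : C ⟶ D.S.functor.obj B) ≫ v + h ≫ ρ) = D.tr B (g ≫ (0 : C ⟶ D.S.functor.obj B)) + D.tr _ (ρ ≫ _) at h₁
    rw [zero_comp, zero_add, comp_zero, map_zero, zero_add, ← hη, Category.assoc, D.tr_cyclic h (ρ ≫ η), Category.assoc] at h₁
    exact h₁

theorem map_distinguished : ∀ T' ∈ distTriang T,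
    Triangle.mk (D.S.functor.map T'.mor₁) (D.S.functor.map T'.mor₂)
      (D.S.functor.map T'.mor₃ ≫ (shiftIso D).hom.app T'.obj₁) ∈ distTriang T := by
  intro T' hT
  obtain ⟨Q, v, w, hQ⟩ := distinguished_cocone_triangle (D.S.functor.map T'.mor₁)
  obtain ⟨η, hη₁, hη₂⟩ := exists_third D T'.obj₁ T'.obj₂ T'.obj₃ Q T'.mor₁ T'.mor₂ T'.mor₃ v w hT hQ
  let F := D.S.functor
  let e := (shiftIso D).app T'.obj₁
  have hw : η ≫ F.map T'.mor₃ ≫ e.hom = w := by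
    rw [← Category.assoc, hη₂]
    exact (Category.assoc _ _ _).trans ((congrArg (w ≫ ·) e.inv_hom_id).trans (Category.comp_id _))
  have hz : ∀ {X : T} (z : X ⟶ (F.obj T'.obj₁)⟦(1 : ℤ)⟧), z ≫ (F.map T'.mor₁)⟦(1 : ℤ)⟧' = 0 →
      ∃ q, z = q ≫ w := fun z hz =>
    Triangle.coyoneda_exact₃ _ (rot_of_distTriang _ hQ) z (by
      change z ≫ (- (F.map T'.mor₁)⟦(1 : ℤ)⟧') = 0
      rw [Preadditive.comp_neg, hz, neg_zero])
  have hinj : ∀ {X : T} (q : X ⟶ Q), q ≫ η = 0 → q = 0 := by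
    intro X q hq
    have h₁ : q ≫ w = 0 := by rw [← hw, reassoc_of% hq, zero_comp]
    obtain ⟨b, rfl⟩ : ∃ b, q = b ≫ v := Triangle.coyoneda_exact₃ _ hQ q h₁
    rw [Category.assoc, hη₁] at hq
    let u := D.S.functor.objObjPreimageIso X
    obtain ⟨b₀, hb₀⟩ := F.map_surjective (u.hom ≫ b)
    have hb' : b₀ ≫ T'.mor₂ = 0 := F.map_injective (by rw [F.map_comp, hb₀, Category.assoc, hq, comp_zero, F.map_zero])
    obtain ⟨a₀, rfl⟩ := Triangle.coyoneda_exact₂ _ hT b₀ hb'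
    rw [F.map_comp] at hb₀
    rw [← cancel_epi u.hom, comp_zero, ← Category.assoc, ← hb₀, Category.assoc,
      show F.map T'.mor₁ ≫ v = 0 from comp_distTriang_mor_zero₁₂ _ hQ, comp_zero]
  have hsurj : ∀ {X : T} (z : X ⟶ F.obj T'.obj₃), ∃ q : X ⟶ Q, z = q ≫ η := by
    intro X z
    obtain ⟨q, hq⟩ := hz (z ≫ F.map T'.mor₃ ≫ e.hom) (by
      rw [Category.assoc, Category.assoc,
        show e.hom ≫ (F.map T'.mor₁)⟦(1 : ℤ)⟧' = F.map (T'.mor₁⟦(1 : ℤ)⟧') ≫ ((shiftIso D).app T'.obj₂).hom from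
          ((shiftIso D).hom.naturality T'.mor₁).symm,
        ← F.map_comp_assoc, comp_distTriang_mor_zero₃₁ _ hT, F.map_zero, zero_comp, comp_zero])
    have h₀ : (z - q ≫ η) ≫ F.map T'.mor₃ = 0 := by
      rw [← cancel_mono e.hom, zero_comp, Category.assoc, Preadditive.sub_comp, Category.assoc q, hw, hq, sub_self]
    let u := D.S.functor.objObjPreimageIso X
    obtain ⟨z₀, hz₀⟩ := F.map_surjective (u.hom ≫ (z - q ≫ η))
    have hz₀' : z₀ ≫ T'.mor₃ = 0 := F.map_injective (by rw [F.map_comp, hz₀, Category.assoc, h₀, comp_zero, F.map_zero])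
    obtain ⟨b₀, rfl⟩ := Triangle.coyoneda_exact₃ _ hT z₀ hz₀'
    refine ⟨q + u.inv ≫ F.map b₀ ≫ v, ?_⟩
    rw [Preadditive.add_comp, Category.assoc, Category.assoc, hη₁, ← F.map_comp, hz₀, Iso.inv_hom_id_assoc]
    abel
  have hiso : IsIso η := by
    obtain ⟨s, hs⟩ := hsurj (𝟙 _)
    refine ⟨s, ?_, hs.symm⟩
    rw [← sub_eq_zero]
    exact hinj _ (by rw [Preadditive.sub_comp, Category.assoc, ← hs, Category.comp_id, Category.id_comp, sub_self])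
  refine isomorphic_distinguished _ hQ _ (Iso.symm ?_)
  exact Triangle.isoMk _ _ (Iso.refl _) (Iso.refl _) (@asIso _ _ _ _ η hiso)
    ((Category.comp_id _).trans (Category.id_comp _).symm)
    (hη₁.trans (Category.id_comp _).symm)
    (by
      change w ≫ (shiftFunctor T (1 : ℤ)).map (𝟙 _) = η ≫ F.map T'.mor₃ ≫ e.hom
      rw [CategoryTheory.Functor.map_id, Category.comp_id, hw])

end Groth.Agent.Serre43
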